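import Mathlib

/-!
# Small fixed point subgroups in coprime nilpotent actions

A finite nilpotent group `Γ` acting on a finite abelian group `W` of coprime order without
nontrivial common fixed point has an element `γ` with `|C_W(γ)|² ≤ |W|`.
-/

set_option autoImplicit false
set_option linter.style.haveILetI false

namespace CfsgLib.PrimitiveDegree

universe u v
variable {W : Type u} [CommGroup W] {Γ : Type v} [Group Γ] (φ : Γ →* MulAut W)

/-- The fixed points of `γ`. -/
def fix (γ : Γ) : Subgroup W where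
  carrier := {w | φ γ w = w}
  one_mem' := map_one _
  mul_mem' := fun {a b} ha hb => by
    show φ γ (a * b) = a * b
    rw [map_mul, show φ γ a = a from ha, show φ γ b = b from hb]
  inv_mem' := fun {a} ha => by
    show φ γ a⁻¹ = a⁻¹
    rw [map_inv, show φ γ a = a from ha]

theorem mem_fix {γ : Γ} {w : W} : w ∈ fix φ γ ↔ φ γ w = w := Iff.rfl

theorem apply_mul (a b : Γ) (w : W) : φ (a * b) w = φ a (φ b w) := by rw [map_mul]; rfl

variable [Finite W] [Fintype Γ]

/-- The product over the group, by induction along invariant subgroups. -/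
theorem prod_card_fix_sq_le [Group.IsNilpotent Γ] (hcop : (Nat.card W).Coprime (Nat.card Γ))
    (hW : ∀ w, (∀ γ, φ γ w = w) → w = 1) :
    ∀ U : Subgroup W, (∀ γ, ∀ w ∈ U, φ γ w ∈ U) →
      ∏ γ, Nat.card ↥(U ⊓ fix φ γ) ^ 2 ≤ Nat.card U ^ Fintype.card Γ := by
  intro U
  induction U using WellFoundedLT.induction with
  | _ U ih =>
    intro hU
    rcases eq_or_ne U ⊥ with rfl | hne
    · refine le_of_eq_of_le ?_ (Nat.one_le_pow _ _ Nat.card_pos)
      refine Finset.prod_eq_one fun γ _ => ?_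
      rw [show ((⊥ : Subgroup W) ⊓ fix φ γ) = ⊥ from bot_inf_eq _, Subgroup.card_bot, one_pow]
    -- the kernel on `U`
    let K : Subgroup Γ :=
      { carrier := {γ | ∀ w ∈ U, φ γ w = w}
        one_mem' := fun w _ => by simp
        mul_mem' := fun {a b} ha hb w hw => by rw [apply_mul, hb w hw, ha w hw]
        inv_mem' := fun {a} ha w hw => by
          conv_lhs => rw [← ha w hw]
          rw [← apply_mul, inv_mul_cancel, map_one]; rfl }
    haveI : K.Normal := ⟨fun a ha g w hw => by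
      rw [apply_mul, apply_mul, ha _ (hU _ w hw), ← apply_mul, mul_inv_cancel, map_one]; rfl⟩
    haveI : Nontrivial (Γ ⧸ K) := by
      rw [← not_subsingleton_iff_nontrivial]
      intro hsub
      obtain ⟨w, hw, hw1⟩ := U.bot_or_exists_ne_one.resolve_left hne
      exact hw1 (hW w fun γ => ((QuotientGroup.eq_one_iff γ).1 (Subsingleton.elim _ _) : γ ∈ K) w hw)
    haveI : Group.IsNilpotent (Γ ⧸ K) :=
      Group.nilpotent_of_surjective (QuotientGroup.mk' K) (QuotientGroup.mk'_surjective K)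
    obtain ⟨q, hq, hq1⟩ := (Subgroup.center (Γ ⧸ K)).bot_or_exists_ne_one.resolve_left
      (Group.IsNilpotent.center_ne_bot _)
    obtain ⟨z, rfl⟩ := QuotientGroup.mk_surjective q
    have hcomm : ∀ γ, ∀ w ∈ U, φ z (φ γ w) = φ γ (φ z w) := fun γ w hw => by
      have h1 := (QuotientGroup.eq).1 (Subgroup.mem_center_iff.1 hq γ)
      have h3 : φ ((γ * z)⁻¹ * (z * γ)) w = w := h1 w hw
      rw [← apply_mul, ← apply_mul]
      conv_rhs => rw [← h3]
      rw [← apply_mul, mul_inv_cancel_left]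
    -- the fixed points and the commutators of `z`
    let U₀ := U ⊓ fix φ z
    have hU₀ : ∀ γ, ∀ w ∈ U₀, φ γ w ∈ U₀ := fun γ w hw =>
      ⟨hU γ w hw.1, show φ z (φ γ w) = φ γ w by rw [hcomm γ w hw.1, (mem_fix φ).1 hw.2]⟩
    have hlt : U₀ < U := by
      refine lt_of_le_of_ne inf_le_left fun he => hq1 ?_
      exact (QuotientGroup.eq_one_iff z).2 fun w hw => (mem_fix φ).1 ((he.symm ▸ hw : w ∈ U₀).2)
    let δ : W →* W :=
      { toFun := fun w => φ z w * w⁻¹
        map_one' := by simp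
        map_mul' := fun a b => by rw [map_mul, mul_inv]; exact mul_mul_mul_comm _ _ _ _ }
    let R := U.map δ
    have hRU : R ≤ U := by
      rintro _ ⟨w, hw, rfl⟩
      exact U.mul_mem (hU z w hw) (U.inv_mem hw)
    have hδcomm : ∀ γ, ∀ w ∈ U, φ γ (δ w) = δ (φ γ w) := fun γ w hw => by
      show φ γ (φ z w * w⁻¹) = φ z (φ γ w) * (φ γ w)⁻¹
      rw [map_mul, map_inv, hcomm γ w hw]
    have hfree : ∀ r ∈ R, φ z r = r → r = 1 := by
      rintro _ ⟨w, hw, rfl⟩ hr
      have hiter : ∀ i : ℕ, φ (z ^ i) w = δ w ^ i * w := fun i => by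
        induction i with
        | zero => simp
        | succ i ihi =>
          rw [pow_succ', apply_mul, ihi, map_mul, map_pow, hr, pow_succ, mul_assoc]
          congr 1
          show φ z w = φ z w * w⁻¹ * w
          rw [inv_mul_cancel_right]
      have h1 := hiter (Nat.card Γ)
      rw [pow_card_eq_one', map_one, MulAut.one_apply, right_eq_mul] at h1
      have h2 : δ w ^ Nat.card W = 1 := pow_card_eq_one'
      have := pow_gcd_eq_one.2 ⟨h2, h1⟩
      rwa [hcop, pow_one] at this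
    have hkerδ : ∀ w, δ w = 1 ↔ φ z w = w := fun w => by
      show φ z w * w⁻¹ = 1 ↔ _
      exact mul_inv_eq_one
    have hcard : Nat.card U = Nat.card U₀ * Nat.card R := by
      have h := Subgroup.card_eq_card_quotient_mul_card_subgroup (δ.comp U.subtype).ker
      have e1 : Nat.card (δ.comp U.subtype).ker = Nat.card U₀ := Nat.card_congr
        { toFun := fun w => ⟨w.1.1, w.1.2, (hkerδ _).1 w.2⟩
          invFun := fun w => ⟨⟨w.1, w.2.1⟩, (hkerδ _).2 w.2.2⟩
          left_inv := fun w => rfl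
          right_inv := fun w => rfl }
      have e2 : Nat.card (U ⧸ (δ.comp U.subtype).ker) = Nat.card R := by
        rw [Nat.card_congr (QuotientGroup.quotientKerEquivRange (δ.comp U.subtype)).toEquiv,
          MonoidHom.range_comp, Subgroup.range_subtype]
      rw [h, e1, e2, mul_comm]
    have hsplit : ∀ γ, Nat.card ↥(U ⊓ fix φ γ) ≤
        Nat.card ↥(U₀ ⊓ fix φ γ) * Nat.card ↥(R ⊓ fix φ γ) := fun γ => by
      rw [Subgroup.card_eq_card_quotient_mul_card_subgroup (δ.comp (U ⊓ fix φ γ).subtype).ker, mul_comm]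
      refine Nat.mul_le_mul ?_ ?_
      · refine Nat.card_le_card_of_injective
          (fun w => (⟨w.1.1, ⟨w.1.2.1, (hkerδ _).1 w.2⟩, w.1.2.2⟩ : ↥(U₀ ⊓ fix φ γ)))
          fun a b e => Subtype.ext (Subtype.ext (congrArg Subtype.val e :))
      · rw [Nat.card_congr (QuotientGroup.quotientKerEquivRange (δ.comp (U ⊓ fix φ γ).subtype)).toEquiv,
          MonoidHom.range_comp, Subgroup.range_subtype]
        refine Subgroup.card_le_of_le (le_inf (Subgroup.map_mono inf_le_left) ?_)
        rintro _ ⟨w, hw, rfl⟩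
        rw [mem_fix, hδcomm γ w hw.1, (mem_fix φ).1 hw.2]
    have hpair : ∀ γ, Nat.card ↥(R ⊓ fix φ γ) * Nat.card ↥(R ⊓ fix φ (γ * z)) ≤ Nat.card R := by
      intro γ
      rw [← Nat.card_prod]
      refine Nat.card_le_card_of_injective (fun q => (⟨q.1.1 * q.2.1, R.mul_mem q.1.2.1 q.2.2.1⟩ : R)) ?_
      rintro ⟨a, b⟩ ⟨a', b'⟩ e
      have e' : a.1 * b.1 = a'.1 * b'.1 := congrArg Subtype.val e
      have hr : a'.1⁻¹ * a.1 = b'.1 * b.1⁻¹ := by
        rw [inv_mul_eq_iff_eq_mul, ← mul_assoc, ← e', mul_inv_cancel_right]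
      have h1 : φ γ (a'.1⁻¹ * a.1) = a'.1⁻¹ * a.1 :=
        (fix φ γ).mul_mem ((fix φ γ).inv_mem a'.2.2) a.2.2
      have h2 : φ (γ * z) (a'.1⁻¹ * a.1) = a'.1⁻¹ * a.1 := by
        rw [hr]; exact (fix φ (γ * z)).mul_mem b'.2.2 ((fix φ (γ * z)).inv_mem b.2.2)
      have h3 : φ z (a'.1⁻¹ * a.1) = a'.1⁻¹ * a.1 := by
        rw [apply_mul] at h2
        exact (φ γ).injective (h2.trans h1.symm)
      have h4 := hfree _ (R.mul_mem (R.inv_mem a'.2.1) a.2.1) h3
      have ha : a = a' := Subtype.ext (inv_mul_eq_one.1 h4).symm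
      subst ha
      exact Prod.ext rfl (Subtype.ext (mul_left_cancel e'))
    have hRprod : ∏ γ, Nat.card ↥(R ⊓ fix φ γ) ^ 2 ≤ Nat.card R ^ Fintype.card Γ := by
      have e : ∏ γ, Nat.card ↥(R ⊓ fix φ γ) = ∏ γ, Nat.card ↥(R ⊓ fix φ (γ * z)) :=
        (Fintype.prod_equiv (Equiv.mulRight z) _ _ fun γ => rfl).symm
      rw [Finset.prod_pow, sq]
      nth_rewrite 2 [e]
      rw [← Finset.prod_mul_distrib, ← Finset.card_univ]
      exact Finset.prod_le_pow_card _ _ _ fun γ _ => hpair γ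
    calc ∏ γ, Nat.card ↥(U ⊓ fix φ γ) ^ 2
        ≤ ∏ γ, (Nat.card ↥(U₀ ⊓ fix φ γ) ^ 2 * Nat.card ↥(R ⊓ fix φ γ) ^ 2) :=
          Finset.prod_le_prod' fun γ _ => by
            rw [← mul_pow]; exact Nat.pow_le_pow_left (hsplit γ) 2
      _ ≤ Nat.card U₀ ^ Fintype.card Γ * Nat.card R ^ Fintype.card Γ := by
          rw [Finset.prod_mul_distrib]
          exact Nat.mul_le_mul (ih U₀ hlt hU₀) hRprod
      _ = _ := by rw [hcard, mul_pow]

/-- An element with small fixed points. -/
theorem exists_card_fix_sq_le [Group.IsNilpotent Γ] (hcop : (Nat.card W).Coprime (Nat.card Γ))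
    (hW : ∀ w, (∀ γ, φ γ w = w) → w = 1) : ∃ γ, Nat.card (fix φ γ) ^ 2 ≤ Nat.card W := by
  by_contra hc
  push Not at hc
  have h := prod_card_fix_sq_le φ hcop hW ⊤ fun _ _ _ => Subgroup.mem_top _
  simp only [top_inf_eq, Subgroup.card_top] at h
  have h2 : Nat.card W ^ Fintype.card Γ < ∏ γ, Nat.card (fix φ γ) ^ 2 := by
    rw [← Finset.card_univ, ← Finset.prod_const]
    exact Finset.prod_lt_prod_of_nonempty (fun _ _ => Nat.card_pos) (fun γ _ => hc γ)
      Finset.univ_nonempty
  exact absurd h (not_le.2 h2)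

end CfsgLib.PrimitiveDegree
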