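import Mathlib
import Cfsg.Agent.CharactersDeep.Clifford
import Cfsg.Agent.CharactersDeep.ExtensionCriteria
import Cfsg.Agent.Codegree.Kernel
import Cfsg.Agent.GaloisAverage.Basic

/-!
# Restrictions of quasiprimitive characters

For an irreducible character whose restrictions to normal subgroups are homogeneous: normal
subgroups with commuting images act by scalars, and the restriction to a normal subgroup with
nilpotent quotient is irreducible.
-/

set_option autoImplicit false
set_option linter.style.haveILetI false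

namespace CfsgLib.PrimitiveDegree

open CfsgLib.Characters CfsgLib.OddOrderChar CfsgLib.CharactersDeep Cfsg

universe u v
variable {G : Type u} [Group G]

/-- Restrictions to normal subgroups are homogeneous. -/
def QPrim (χ : G → ℂ) : Prop :=
  ∀ M : Subgroup G, M.Normal →
    ∃ (φ : M → ℂ) (e : ℕ), 0 < e ∧ Cfsg.IsIrrCharacter M φ ∧ (fun m : M => χ m) = (e : ℂ) • φ

/-- A primitive character is quasiprimitive. -/
theorem qprim_of_primitive [Fintype G] {χ : G → ℂ} (hχ : Cfsg.IsIrrCharacter G χ)
    (hprim : ¬ ∃ (H : Subgroup G), H ≠ ⊤ ∧ ∃ θ : ↥H → ℂ, Cfsg.IsCharacter ↥H θ ∧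
      Cfsg.indFun H θ = χ) : QPrim χ := by
  classical
  intro M hM
  haveI := hM
  letI := Fintype.ofFinite M
  have hres := isCharacter_restrict M (isCharacter_of_isIrr hχ)
  obtain ⟨θ, hθ⟩ : ∃ θ : Cfsg.IrrCharacter M,
      Cfsg.classInner (fun n : M => χ n) (θ : M → ℂ) ≠ 0 := by
    by_contra hc
    push Not at hc
    have h := congrFun (classFunction_expansion (isClassFunction_of_isCharacter hres)) 1
    simp [hc] at h
    exact irr_one_ne_zero hχ h
  let T : Subgroup G :=
    { carrier := {g | conjBy M (θ : M → ℂ) g = θ}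
      one_mem' := conjBy_one M _
      mul_mem' := fun {a b} ha hb => by
        show conjBy M _ (a * b) = _
        rw [← conjBy_mul, show conjBy M (θ : M → ℂ) a = θ from ha]; exact hb
      inv_mem' := fun {a} ha => by
        show conjBy M _ a⁻¹ = _
        conv_lhs => rw [← show conjBy M (θ : M → ℂ) a = θ from ha]
        rw [conjBy_mul, mul_inv_cancel, conjBy_one] }
  by_cases hT : T = ⊤
  · obtain ⟨e, he, heq, -⟩ := Clifford.restrict_eq_smul M hχ θ.2
      (fun g => (hT.symm ▸ Subgroup.mem_top g : g ∈ T)) hθ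
    exact ⟨θ, e, he, θ.2, heq⟩
  · exfalso
    letI := Fintype.ofFinite T
    have hMT : M ≤ T := fun m hm => by
      show conjBy M (θ : M → ℂ) m = θ
      funext n
      exact isClassFunction_of_isIrr θ.2 n ⟨m, hm⟩
    obtain ⟨ψ, e, -, hψ, hind, -⟩ := Clifford.exists_induced_from_inertia M θ.2 T (fun g => Iff.rfl)
      hMT hχ hθ
    exact hprim ⟨T, hT, ψ, isCharacter_of_isIrr hψ, hind⟩

variable [Finite G] {V : Type v} [AddCommGroup V] [Module ℂ V] [FiniteDimensional ℂ V]
  (ρ : Representation ℂ G V)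

omit [Finite G] in
/-- An irreducible representation with commuting operators has dimension one. -/
theorem finrank_eq_one_of_commute [ρ.IsIrreducible] (h : ∀ a b, ρ a * ρ b = ρ b * ρ a) :
    Module.finrank ℂ V = 1 := by
  haveI := nontrivial_of_isIrreducible ρ
  have hsc : ∀ a, ∃ c : ℂ, ρ a = c • LinearMap.id := fun a =>
    schur_scalar ρ (ρ a) fun g x => LinearMap.congr_fun (h a g) x
  obtain ⟨v, hv⟩ := exists_ne (0 : V)
  rcases IsSimpleOrder.eq_bot_or_eq_top
    (⟨Submodule.span ℂ {v}, fun g x hx => by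
      obtain ⟨c, hc⟩ := hsc g
      rw [hc]
      exact Submodule.smul_mem _ c hx⟩ : Subrepresentation ρ) with h0 | h0
  · exact absurd (Submodule.span_singleton_eq_bot.1 (congrArg Subrepresentation.toSubmodule h0)) hv
  · have h1 : Submodule.span ℂ {v} = ⊤ := congrArg Subrepresentation.toSubmodule h0
    rw [← finrank_top ℂ V, ← h1, finrank_span_singleton hv]

/-- A normal subgroup with commuting images acts by scalars. -/
theorem scalar_of_commute (hq : QPrim ρ.character) (A : Subgroup G) [hA : A.Normal]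
    (hab : ∀ a ∈ A, ∀ b ∈ A, ρ a * ρ b = ρ b * ρ a) {a : G} (ha : a ∈ A) :
    ∃ c : ℂ, ρ a = c • LinearMap.id := by
  obtain ⟨φ, e, he, ⟨m, σ, hσ, hφ⟩, hres⟩ := hq A hA
  have hval : ∀ x : A, ρ.character x = (e : ℂ) * φ x := fun x => congrFun hres x
  have hcomm : ∀ x y : A, σ x * σ y = σ y * σ x := by
    intro x y
    have h1 : ρ ((x⁻¹ * y⁻¹ * x * y : A) : G) = 1 := by
      push_cast
      rw [map_mul, map_mul, map_mul, mul_assoc (ρ ((x : G)⁻¹) * ρ ((y : G)⁻¹)), hab x x.2 y y.2,
        ← map_mul, ← map_mul, ← map_mul]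
      simp [mul_assoc]
    rw [← Codegree.char_eq_one_iff, show (1 : G) = ((1 : A) : G) from rfl, hval, hval,
      mul_right_inj' (Nat.cast_ne_zero.2 he.ne'), ← hφ, Codegree.char_eq_one_iff] at h1
    calc σ x * σ y = σ y * σ x * σ (x⁻¹ * y⁻¹ * x * y) := by
          rw [← map_mul, ← map_mul, ← map_mul]; congr 1; group
      _ = _ := by rw [h1, mul_one]
  have hm : Module.finrank ℂ (Fin m → ℂ) = 1 := finrank_eq_one_of_commute σ hcomm
  obtain ⟨c, hc⟩ := schur_scalar σ (σ ⟨a, ha⟩) fun g x => LinearMap.congr_fun (hcomm _ g) x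
  have h1 := (norm_char_eq_iff_scalar σ ⟨a, ha⟩).2 ⟨c, hc⟩
  refine (norm_char_eq_iff_scalar ρ a).1 ?_
  have hd : (Module.finrank ℂ V : ℂ) = (e : ℂ) * (Module.finrank ℂ (Fin m → ℂ) : ℂ) := by
    rw [← Representation.char_one σ, hφ, ← hval, Subgroup.coe_one, Representation.char_one]
  rw [hm, Nat.cast_one, mul_one, Nat.cast_inj] at hd
  rw [show ρ.character a = (e : ℂ) * φ ⟨a, ha⟩ from hval ⟨a, ha⟩, ← hφ, norm_mul, h1, hm,
    Complex.norm_natCast, Nat.cast_one, mul_one, hd]

omit [Finite G] in
/-- The prime step. -/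
theorem isIrr_restrict_step [Fintype G] {χ : G → ℂ} (hq : QPrim χ) (hcl : Cfsg.IsClassFunction G χ)
    (M M' : Subgroup G) [M.Normal] [Fintype M] [Fintype M'] (hle : M ≤ M') {r : ℕ} (hr : r.Prime)
    (hcard : Nat.card M' = Nat.card M * r) (hirr : Cfsg.IsIrrCharacter M' fun x : M' => χ x) :
    Cfsg.IsIrrCharacter M fun x : M => χ x := by
  classical
  obtain ⟨θ, e, he, hθ, hres⟩ := hq M inferInstance
  have hval : ∀ x : M, χ x = (e : ℂ) * θ x := fun x => congrFun hres x
  let N' := M.subgroupOf M'
  letI := Fintype.ofFinite N'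
  haveI : N'.Normal := Subgroup.normal_subgroupOf
  let E : N' ≃* M := Subgroup.subgroupOfEquivOfLe hle
  have hθ' : Cfsg.IsIrrCharacter N' fun x => θ (E x) := isIrr_comp E.toMonoidHom E.surjective hθ
  have hindex : N'.index = r := by
    have h := N'.card_mul_index
    rw [Nat.card_congr E.toEquiv, hcard] at h
    exact Nat.eq_of_mul_eq_mul_left Nat.card_pos h
  have hdvd : e ∣ r := hindex ▸ ExtensionCriteria.ramification_dvd_index N' hθ'
    (fun g n => mul_left_cancel₀ (Nat.cast_ne_zero.2 he.ne' : (e : ℂ) ≠ 0) (by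
      rw [← hval, ← hval]
      exact hcl (n : G) (g : G))) hirr he (funext fun n => hval (E n))
  have h1 := GaloisAverage.sum_normSq_irr (classInner_isIrr_self hirr)
  have h2 := GaloisAverage.sum_normSq_irr (classInner_isIrr_self hθ)
  have h3 : ∑ x : M, ‖χ x‖ ^ 2 ≤ ∑ x : M', ‖χ x‖ ^ 2 := by
    refine le_of_eq_of_le ((Finset.sum_map Finset.univ
      ⟨Subgroup.inclusion hle, Subgroup.inclusion_injective hle⟩ (fun x : M' => ‖χ x‖ ^ 2))).symm ?_
    exact Finset.sum_le_sum_of_subset_of_nonneg (Finset.subset_univ _) fun _ _ _ => by positivity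
  rw [h1, hcard] at h3
  simp only [hval, norm_mul, mul_pow, ← Finset.mul_sum, h2, Complex.norm_natCast] at h3
  have h4 : e ^ 2 * Nat.card M ≤ Nat.card M * r := by exact_mod_cast h3
  have he1 : e = 1 := by
    rcases (Nat.dvd_prime hr).1 hdvd with h | h
    · exact h
    · exfalso
      subst h
      have := hr.two_le
      have hM : 0 < Nat.card M := Nat.card_pos
      nlinarith
  rw [hres, he1, Nat.cast_one, one_smul]
  exact hθ

omit [Finite G] in
/-- The restriction to a normal subgroup with nilpotent quotient is irreducible. -/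
theorem isIrr_restrict_of_nilpotent [Fintype G] {χ : G → ℂ} (hq : QPrim χ)
    (hχ : Cfsg.IsIrrCharacter G χ) (M : Subgroup G) [M.Normal] [Fintype M]
    (hnil : Group.IsNilpotent (G ⧸ M)) : Cfsg.IsIrrCharacter M fun x : M => χ x := by
  classical
  revert hnil
  suffices key : ∀ (N : Subgroup G) [N.Normal] [Fintype N], Group.IsNilpotent (G ⧸ N) →
      Cfsg.IsIrrCharacter N fun x : N => χ x from key M
  intro N
  induction N using WellFoundedGT.induction with
  | _ M ih =>
    intro _ _ hnil
    rcases subsingleton_or_nontrivial (G ⧸ M) with hs | hs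
    · have htop : M = ⊤ := eq_top_iff.2 fun g _ => (QuotientGroup.eq_one_iff g).1 (Subsingleton.elim _ _)
      subst htop
      exact isIrr_comp (Subgroup.topEquiv (G := G)).toMonoidHom (MulEquiv.surjective _) hχ
    haveI : Nontrivial (Subgroup.center (G ⧸ M)) :=
      (Subgroup.nontrivial_iff_ne_bot _).2 (Group.IsNilpotent.center_ne_bot _)
    obtain ⟨r, hr, hdvd⟩ := Nat.exists_prime_and_dvd (Finite.one_lt_card (α := Subgroup.center (G ⧸ M))).ne'
    haveI : Fact r.Prime := ⟨hr⟩
    obtain ⟨z, hz⟩ := exists_prime_orderOf_dvd_card' r hdvd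
    let C : Subgroup (G ⧸ M) := Subgroup.zpowers (z : G ⧸ M)
    haveI : C.Normal := ⟨fun a ha g => by
      have := Subgroup.mem_center_iff.1 ((Subgroup.zpowers_le.2 z.2) ha) g
      rwa [this, mul_inv_cancel_right]⟩
    have hC : Nat.card C = r := by rw [Nat.card_zpowers, Subgroup.orderOf_coe, hz]
    let M' : Subgroup G := C.comap (QuotientGroup.mk' M)
    letI := Fintype.ofFinite M'
    have hle : M ≤ M' := fun m hm => by
      show (QuotientGroup.mk' M m) ∈ C
      rw [QuotientGroup.mk'_apply, (QuotientGroup.eq_one_iff m).2 hm]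
      exact C.one_mem
    have hcard : Nat.card M' = Nat.card M * r := by
      have h1 : Nat.card M' * M'.index = Nat.card G := M'.card_mul_index
      have h2 : M'.index = C.index := Subgroup.index_comap_of_surjective _ (QuotientGroup.mk'_surjective M)
      have h3 : Nat.card C * C.index = M.index := C.card_mul_index.trans rfl
      have h4 := M.card_mul_index
      rw [← h4, ← h3, hC, h2, ← mul_assoc] at h1
      exact Nat.eq_of_mul_eq_mul_right (Nat.pos_of_ne_zero Subgroup.index_ne_zero_of_finite) h1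
    have hlt : M < M' := lt_of_le_of_ne hle fun h => by
      rw [← h] at hcard
      have := hr.two_le
      have hM : 0 < Nat.card M := Nat.card_pos
      nlinarith
    refine isIrr_restrict_step hq (isClassFunction_of_isIrr hχ) M M' hle hr hcard ?_
    refine ih M' hlt ?_
    exact Group.nilpotent_of_surjective (QuotientGroup.map M M' (MonoidHom.id G) hle)
      fun x => QuotientGroup.induction_on x fun a => ⟨a, rfl⟩

end CfsgLib.PrimitiveDegree
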