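import Mathlib
import Cfsg.Agent.PrimitiveDegree.FixedProduct
import Cfsg.Agent.PrimitiveDegree.Quasi

/-!
# Degrees of primitive characters of metanilpotent groups with two primes

If `χ` is quasiprimitive, `N` is a nilpotent normal subgroup with nilpotent quotient and only two
primes divide `|G|`, then `χ(1)` divides a class size.
-/

set_option autoImplicit false
set_option linter.style.haveILetI false
set_option linter.unusedSectionVars false

namespace CfsgLib.PrimitiveDegree

open CfsgLib.Characters Cfsg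
open scoped ComplexConjugate commutatorElement

universe u v
variable {G : Type u} [Group G] [Finite G]

/-- A nilpotent normal subgroup has central commutator when abelian normal subgroups are central. -/
theorem commutator_le_center (hab : ∀ A : Subgroup G, A.Normal →
      (∀ a ∈ A, ∀ b ∈ A, a * b = b * a) → A ≤ Subgroup.center G)
    (N : Subgroup G) [hN : N.Normal] (hnil : Group.IsNilpotent N) :
    ⁅N, N⁆ ≤ Subgroup.center G := by
  obtain ⟨n, hn⟩ := (Subgroup.isNilpotent_iff_lowerCentralSeries N).1 hnil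
  have hnorm : ∀ i, (N.lowerCentralSeries i).Normal := fun i => by
    induction i with
    | zero => exact hN
    | succ i ih => rw [Subgroup.lowerCentralSeries_succ]; infer_instance
  have key : ∀ j i, 1 ≤ i → i + j = n + 1 → N.lowerCentralSeries i ≤ Subgroup.center G := by
    intro j
    induction j with
    | zero =>
      intro i _ hij
      exact ((N.lowerCentralSeries_antitone (by omega : n ≤ i)).trans hn.le).trans bot_le
    | succ j ih =>
      intro i hi hij
      have h1 : N.lowerCentralSeries (i + 1) ≤ Subgroup.center G := ih (i + 1) (by omega) (by omega)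
      set L := N.lowerCentralSeries i
      have hz : ⁅⁅L, N⁆, N⁆ = ⊥ := by
        rw [Subgroup.commutator_eq_bot_iff_le_centralizer]
        exact (h1.trans (Subgroup.center_le_centralizer _))
      have hz' : ⁅⁅N, L⁆, N⁆ = ⊥ := by rw [Subgroup.commutator_comm N L]; exact hz
      have h3 : ⁅⁅N, N⁆, L⁆ = ⊥ := Subgroup.commutator_commutator_eq_bot_of_rotate hz' hz
      have hLN : L ≤ ⁅N, N⁆ := by
        have := N.lowerCentralSeries_antitone hi
        simpa using this
      refine hab L (hnorm i) fun a ha b hb => ?_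
      have h4 := (Subgroup.commutator_eq_bot_iff_le_centralizer.1 h3) (hLN ha)
      exact (Subgroup.mem_centralizer_iff.1 h4 b hb).symm
  simpa using key n 1 le_rfl (by omega)

variable {V : Type v} [AddCommGroup V] [Module ℂ V] [FiniteDimensional ℂ V]

/-- The fully ramified degree. -/
theorem finrank_sq_mul_card_center (σ : Representation ℂ G V) [σ.IsIrreducible]
    (hinj : Function.Injective σ) (hab : ∀ A : Subgroup G, A.Normal →
      (∀ a ∈ A, ∀ b ∈ A, a * b = b * a) → A ≤ Subgroup.center G)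
    (N : Subgroup G) [N.Normal] (hnil : Group.IsNilpotent N)
    (hirr : Representation.IsIrreducible (σ.comp N.subtype)) :
    Module.finrank ℂ V ^ 2 * Nat.card ↥(N ⊓ Subgroup.center G) = Nat.card N := by
  classical
  letI := Fintype.ofFinite N
  haveI := hirr
  haveI := nontrivial_of_isIrreducible σ
  have hsum := GaloisAverage.sum_normSq_irr
    (classInner_isIrr_self (isIrrCharacter_character (σ.comp N.subtype)))
  have hZN : ∀ x ∈ N, (∀ y ∈ N, x * y = y * x) → x ∈ Subgroup.center G := fun x hx h => by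
    refine hab (N ⊓ Subgroup.centralizer (N : Set G)) inferInstance
      (fun a ha b hb => (Subgroup.mem_centralizer_iff.1 ha.2 b hb.1).symm)
      ⟨hx, Subgroup.mem_centralizer_iff.2 fun y hy => (h y hy).symm⟩
  have hvanish : ∀ x : N, (x : G) ∉ Subgroup.center G → σ.character x = 0 := by
    intro x hx
    obtain ⟨y, hy, hxy⟩ : ∃ y ∈ N, (x : G) * y ≠ y * x := by
      by_contra hc
      push Not at hc
      exact hx (hZN x x.2 hc)
    have hcm : ⁅y, (x : G)⁆ ∈ Subgroup.center G :=
      commutator_le_center hab N hnil (Subgroup.commutator_mem_commutator hy x.2)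
    obtain ⟨ω, hω⟩ := central_scalar σ hcm
    have h1 : σ.character x = ω * σ.character x := by
      conv_lhs => rw [← Representation.char_conj σ (x : G) y]
      rw [show y * (x : G) * y⁻¹ = ⁅y, (x : G)⁆ * x by rw [commutatorElement_def]; group,
        Representation.character, Representation.character, map_mul, hω,
        show (LinearMap.id : V →ₗ[ℂ] V) = 1 from rfl, smul_mul_assoc, one_mul, map_smul, smul_eq_mul]
    by_contra h0
    have hω1 : ω = 1 := (mul_eq_right₀ h0).1 h1.symm
    have : ⁅y, (x : G)⁆ = 1 := hinj (by rw [hω, hω1, one_smul]; exact (map_one σ).symm)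
    rw [commutatorElement_eq_one_iff_mul_comm] at this
    exact hxy this.symm
  have hscal : ∀ x : N, (x : G) ∈ Subgroup.center G →
      ‖σ.character x‖ = (Module.finrank ℂ V : ℝ) := fun x hx =>
    (norm_char_eq_iff_scalar σ x).2 (central_scalar σ hx)
  have hS : (Module.finrank ℂ V : ℝ) ^ 2 * (Nat.card ↥(N ⊓ Subgroup.center G) : ℝ) =
      (Nat.card N : ℝ) := by
    rw [← hsum]
    have hval : ∀ x : N, ‖Representation.character (σ.comp N.subtype) x‖ ^ 2 =
        if (x : G) ∈ Subgroup.center G then (Module.finrank ℂ V : ℝ) ^ 2 else 0 := fun x => by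
      split_ifs with hx
      · rw [← hscal x hx]; rfl
      · rw [show Representation.character (σ.comp N.subtype) x = σ.character x from rfl, hvanish x hx]; simp
    rw [Finset.sum_congr rfl fun x _ => hval x, ← Finset.sum_filter, Finset.sum_const, nsmul_eq_mul,
      mul_comm, ← Fintype.card_subtype, ← Nat.card_eq_fintype_card]
    congr 2
    exact Nat.card_congr
      { toFun := fun z => ⟨⟨z.1, z.2.1⟩, z.2.2⟩
        invFun := fun x => ⟨x.1.1, x.1.2, x.2⟩
        left_inv := fun z => rfl
        right_inv := fun x => rfl }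
  exact_mod_cast hS

/-- A normal subgroup contributes its centraliser index to a class size. -/
theorem relIndex_dvd_index_centralizer (N : Subgroup G) [N.Normal] (C : Subgroup G) :
    C.relIndex N ∣ C.index := by
  have h1 : Nat.card ↥(N ⊔ C) = Nat.card N * N.relIndex C := by
    have := Subgroup.relIndex_mul_relIndex ⊥ N (N ⊔ C) bot_le le_sup_left
    rw [Subgroup.relIndex_bot_left, Subgroup.relIndex_bot_left, Subgroup.relIndex_sup_left] at this
    exact this.symm
  have h2 : Nat.card C = Nat.card ↥(N ⊓ C) * N.relIndex C := by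
    have := Subgroup.relIndex_mul_relIndex ⊥ (N ⊓ C) C bot_le inf_le_right
    rw [Subgroup.relIndex_bot_left, Subgroup.relIndex_bot_left, Subgroup.inf_relIndex_right] at this
    exact this.symm
  have h3 : Nat.card N = Nat.card ↥(N ⊓ C) * C.relIndex N := by
    have := Subgroup.relIndex_mul_relIndex ⊥ (N ⊓ C) N bot_le inf_le_left
    rw [Subgroup.relIndex_bot_left, Subgroup.relIndex_bot_left, Subgroup.inf_relIndex_left] at this
    exact this.symm
  have h4 : Nat.card C * C.relIndex N = Nat.card ↥(N ⊔ C) := by rw [h1, h2, h3]; ring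
  have h5 : Nat.card C * C.relIndex N ∣ Nat.card C * C.index := by
    rw [h4, Subgroup.card_mul_index]
    exact Subgroup.card_subgroup_dvd_card _
  exact Nat.dvd_of_mul_dvd_mul_left Nat.card_pos h5

/-- The faithful case. -/
theorem exists_dvd_index_of_faithful {p q : ℕ} [Fact p.Prime] [Fact q.Prime]
    (hpr : ∀ r : ℕ, r.Prime → r ∣ Nat.card G → r = p ∨ r = q) (hpq : p ≠ q)
    (σ : Representation ℂ G V) [σ.IsIrreducible] (hinj : Function.Injective σ)
    (hab : ∀ A : Subgroup G, A.Normal →
      (∀ a ∈ A, ∀ b ∈ A, a * b = b * a) → A ≤ Subgroup.center G)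
    (N : Subgroup G) [N.Normal] (hnil : Group.IsNilpotent N)
    (hirr : Representation.IsIrreducible (σ.comp N.subtype))
    (hquot : Group.IsNilpotent (G ⧸ N)) :
    ∃ g : G, Module.finrank ℂ V ∣ (Subgroup.centralizer ({g} : Set G)).index := by
  classical
  haveI := nontrivial_of_isIrreducible σ
  set Z := N ⊓ Subgroup.center G
  have hZN : ∀ x ∈ N, (∀ y ∈ N, x * y = y * x) → x ∈ Subgroup.center G := fun x hx h => by
    refine hab (N ⊓ Subgroup.centralizer (N : Set G)) inferInstance
      (fun a ha b hb => (Subgroup.mem_centralizer_iff.1 ha.2 b hb.1).symm)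
      ⟨hx, Subgroup.mem_centralizer_iff.2 fun y hy => (h y hy).symm⟩
  let Zn : Subgroup N := Z.subgroupOf N
  haveI : Zn.Normal := Subgroup.normal_subgroupOf
  letI : CommGroup (N ⧸ Zn) :=
    { (inferInstance : Group (N ⧸ Zn)) with
      mul_comm := fun a b => QuotientGroup.induction_on a fun x => QuotientGroup.induction_on b fun y => by
        show ((x * y : N) : N ⧸ Zn) = ((y * x : N) : N ⧸ Zn)
        rw [QuotientGroup.eq, Subgroup.mem_subgroupOf]
        refine ⟨(((x * y)⁻¹ * (y * x) : N)).2, ?_⟩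
        have : (((x * y)⁻¹ * (y * x) : N) : G) = ⁅(y : G)⁻¹, (x : G)⁻¹⁆ := by
          push_cast; rw [commutatorElement_def]; group
        rw [this]
        exact commutator_le_center hab N hnil
          (Subgroup.commutator_mem_commutator (N.inv_mem y.2) (N.inv_mem x.2)) }
  -- the action
  have hcompat : ∀ g : G, Zn ≤ Zn.comap (MulAut.conjNormal (H := N) g).toMonoidHom := fun g z hz => by
    rw [Subgroup.mem_comap, Subgroup.mem_subgroupOf]
    have h2 := (Subgroup.mem_subgroupOf.1 hz).2
    refine ⟨(MulAut.conjNormal g z).2, ?_⟩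
    show ((MulAut.conjNormal g z : N) : G) ∈ _
    rw [MulAut.conjNormal_apply, Subgroup.mem_center_iff.1 h2 g, mul_inv_cancel_right]
    exact h2
  let act : G → (N ⧸ Zn) →* (N ⧸ Zn) := fun g =>
    QuotientGroup.map Zn Zn (MulAut.conjNormal (H := N) g).toMonoidHom (hcompat g)
  have hact1 : ∀ w, act 1 w = w := fun w => QuotientGroup.induction_on w fun x => by simp [act]
  have hactm : ∀ a b w, act (a * b) w = act a (act b w) := fun a b w =>
    QuotientGroup.induction_on w fun x => by simp [act]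
  let φ₀ : G →* MulAut (N ⧸ Zn) :=
    { toFun := fun g =>
        { toFun := act g
          invFun := act g⁻¹
          left_inv := fun w => by rw [← hactm, inv_mul_cancel, hact1]
          right_inv := fun w => by rw [← hactm, mul_inv_cancel, hact1]
          map_mul' := map_mul (act g) }
      map_one' := MulEquiv.ext hact1
      map_mul' := fun a b => MulEquiv.ext (hactm a b) }
  have hφ₀ : ∀ g (x : N), φ₀ g (x : N ⧸ Zn) = ((MulAut.conjNormal g x : N) : N ⧸ Zn) := fun g x => rfl
  have hker : N ≤ φ₀.ker := fun n hn => MonoidHom.mem_ker.2 (MulEquiv.ext fun w =>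
    QuotientGroup.induction_on w fun x => by
      rw [hφ₀, MulAut.one_apply, QuotientGroup.eq, Subgroup.mem_subgroupOf]
      refine ⟨(((MulAut.conjNormal n x)⁻¹ * x : N)).2, ?_⟩
      have : (((MulAut.conjNormal n x)⁻¹ * x : N) : G) = ⁅n, (x : G)⁻¹⁆ := by
        push_cast; rw [MulAut.conjNormal_apply, commutatorElement_def]; group
      rw [this]
      exact commutator_le_center hab N hnil (Subgroup.commutator_mem_commutator hn (N.inv_mem x.2)))
  let φ : G ⧸ N →* MulAut (N ⧸ Zn) := QuotientGroup.lift N φ₀ hker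
  -- central consequence: common fixed points are trivial
  have hfix : ∀ w : N ⧸ Zn, (∀ γ, φ γ w = w) → w = 1 := by
    intro w hw
    obtain ⟨x, rfl⟩ := QuotientGroup.mk_surjective w
    have hcomm : ∀ g : G, ⁅g, (x : G)⁆ ∈ Subgroup.center G := fun g => by
      have h1 : φ₀ g (x : N ⧸ Zn) = (x : N ⧸ Zn) := hw (g : G ⧸ N)
      rw [hφ₀, eq_comm, QuotientGroup.eq, Subgroup.mem_subgroupOf] at h1
      have h2 := h1.2
      have h3 : ⁅g, (x : G)⁆ = (x : G) * ((x⁻¹ * MulAut.conjNormal g x : N) : G) * (x : G)⁻¹ := by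
        push_cast; rw [MulAut.conjNormal_apply, commutatorElement_def]; group
      rw [h3, Subgroup.mem_center_iff.1 h2 (x : G), mul_inv_cancel_right]
      exact h2
    haveI : Z.Normal := inferInstance
    let A : Subgroup G := Subgroup.zpowers (x : G) ⊔ Z
    have hmem : ∀ a ∈ A, ∃ (i : ℤ) (z : G), z ∈ Z ∧ a = (x : G) ^ i * z := by
      intro a ha
      obtain ⟨b, hb, z, hz, rfl⟩ := Subgroup.mem_sup_of_normal_right.1 ha
      obtain ⟨i, rfl⟩ := Subgroup.mem_zpowers_iff.1 hb
      exact ⟨i, z, hz, rfl⟩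
    have hgx : ∀ g : G, g * (x : G) * g⁻¹ = ⁅g, (x : G)⁆ * x := fun g => by
      rw [commutatorElement_def, inv_mul_cancel_right]
    have hcN : ∀ g : G, ⁅g, (x : G)⁆ ∈ Z := fun g => ⟨by
      rw [commutatorElement_def]
      exact N.mul_mem ((inferInstance : N.Normal).conj_mem _ x.2 g) (N.inv_mem x.2), hcomm g⟩
    haveI : A.Normal := ⟨fun a ha g => by
      obtain ⟨i, z, hz, rfl⟩ := hmem a ha
      have h1 : g * (x : G) * g⁻¹ ∈ A := by
        rw [hgx]
        exact A.mul_mem (Subgroup.mem_sup_right (hcN g)) (Subgroup.mem_sup_left (Subgroup.mem_zpowers _))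
      have h2 : g * ((x : G) ^ i * z) * g⁻¹ = (g * (x : G) * g⁻¹) ^ i * (g * z * g⁻¹) := by
        rw [conj_zpow]; group
      rw [h2]
      exact A.mul_mem (A.zpow_mem h1 i)
        (Subgroup.mem_sup_right ((inferInstance : Z.Normal).conj_mem z hz g))⟩
    have hA : ∀ a ∈ A, ∀ b ∈ A, a * b = b * a := by
      intro a ha b hb
      obtain ⟨i, z, hz, rfl⟩ := hmem a ha
      obtain ⟨j, z', hz', rfl⟩ := hmem b hb
      have hzc : ∀ {w : G}, w ∈ Z → ∀ y : G, Commute y w := fun hw y =>
        Subgroup.mem_center_iff.1 hw.2 y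
      exact ((Commute.refl (x : G)).zpow_zpow i j |>.mul_right (hzc hz' _)).mul_left
        (((hzc hz _).symm).mul_right (hzc hz' z))
    rw [QuotientGroup.eq_one_iff, Subgroup.mem_subgroupOf]
    exact ⟨x.2, hab A inferInstance hA (Subgroup.mem_sup_left (Subgroup.mem_zpowers (x : G)))⟩
  haveI : Fintype (G ⧸ N) := Fintype.ofFinite _
  haveI := hquot
  have hΓdvd : Nat.card (G ⧸ N) ∣ Nat.card G := Subgroup.card_quotient_dvd_card N
  -- for a prime `r` and the other prime `s`: an element of `s`-power order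
  have key : ∀ r s : ℕ, r.Prime → s.Prime → r ≠ s →
      (∀ t : ℕ, t.Prime → t ∣ Nat.card G → t = r ∨ t = s) →
      ∀ (Wr : Sylow r (N ⧸ Zn)), ∃ γ : G ⧸ N, (∃ i, orderOf γ ∣ s ^ i) ∧
        Nat.card ↥((Wr : Subgroup (N ⧸ Zn)) ⊓ fix φ γ) ^ 2 ≤ Nat.card (Wr : Subgroup (N ⧸ Zn)) := by
    intro r s hr hs hrs ht Wr
    haveI : Fact r.Prime := ⟨hr⟩
    haveI : Fact s.Prime := ⟨hs⟩
    haveI : (Wr : Subgroup (N ⧸ Zn)).Normal := inferInstance
    haveI := Wr.characteristic_of_normal inferInstance
    have hinv : ∀ γ, ∀ w ∈ (Wr : Subgroup (N ⧸ Zn)), φ γ w ∈ (Wr : Subgroup (N ⧸ Zn)) := fun γ w hw => by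
      have h := Subgroup.characteristic_iff_le_comap.1 (inferInstance : (Wr : Subgroup (N ⧸ Zn)).Characteristic)
        (φ γ)
      exact h hw
    obtain ⟨Q⟩ := (inferInstance : Nonempty (Sylow s (G ⧸ N)))
    obtain ⟨P⟩ := (inferInstance : Nonempty (Sylow r (G ⧸ N)))
    let ψ : (Q : Subgroup (G ⧸ N)) →* MulAut (Wr : Subgroup (N ⧸ Zn)) :=
      { toFun := fun γ =>
          { toFun := fun w => ⟨φ γ w.1, hinv γ w.1 w.2⟩
            invFun := fun w => ⟨φ (γ : G ⧸ N)⁻¹ w.1, hinv _ w.1 w.2⟩
            left_inv := fun w => Subtype.ext (by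
              show φ (γ : G ⧸ N)⁻¹ (φ γ w.1) = w.1
              rw [← apply_mul, inv_mul_cancel, map_one, MulAut.one_apply])
            right_inv := fun w => Subtype.ext (by
              show φ γ (φ (γ : G ⧸ N)⁻¹ w.1) = w.1
              rw [← apply_mul, mul_inv_cancel, map_one, MulAut.one_apply])
            map_mul' := fun a b => Subtype.ext (map_mul (φ γ) a.1 b.1) }
        map_one' := MulEquiv.ext fun w => Subtype.ext (by simp)
        map_mul' := fun a b => MulEquiv.ext fun w => Subtype.ext (apply_mul φ (a : G ⧸ N) b w.1) }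
    obtain ⟨kQ, hkQ⟩ := Q.2.exists_card_eq
    obtain ⟨kW, hkW⟩ := Wr.2.exists_card_eq
    have hcop : (Nat.card (Wr : Subgroup (N ⧸ Zn))).Coprime (Nat.card (Q : Subgroup (G ⧸ N))) := by
      rw [hkQ, hkW]
      exact Nat.Coprime.pow _ _ ((Nat.coprime_primes hr hs).2 hrs)
    haveI : Group.IsNilpotent (Q : Subgroup (G ⧸ N)) := inferInstance
    haveI : Fintype (Q : Subgroup (G ⧸ N)) := Fintype.ofFinite _
    have hnofix : ∀ w, (∀ γ, ψ γ w = w) → w = 1 := by
      intro w hw
      by_contra hw1
      let U : Subgroup (N ⧸ Zn) :=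
        { carrier := {u | u ∈ (Wr : Subgroup (N ⧸ Zn)) ∧ ∀ γ ∈ (Q : Subgroup (G ⧸ N)), φ γ u = u}
          one_mem' := ⟨Subgroup.one_mem _, fun γ _ => map_one _⟩
          mul_mem' := fun {a b} ha hb => ⟨Subgroup.mul_mem _ ha.1 hb.1, fun γ hγ => by
            rw [map_mul, ha.2 γ hγ, hb.2 γ hγ]⟩
          inv_mem' := fun {a} ha => ⟨Subgroup.inv_mem _ ha.1, fun γ hγ => by
            rw [map_inv, ha.2 γ hγ]⟩ }
      have hUinv : ∀ γ, ∀ u ∈ U, φ γ u ∈ U := fun γ u hu => ⟨hinv γ u hu.1, fun δ hδ => by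
        have h1 : γ⁻¹ * δ * γ ∈ (Q : Subgroup (G ⧸ N)) := by
          have := (inferInstance : (Q : Subgroup (G ⧸ N)).Normal).conj_mem δ hδ γ⁻¹
          rwa [inv_inv] at this
        conv_rhs => rw [← hu.2 _ h1]
        rw [← apply_mul, ← apply_mul]
        congr 2
        group⟩
      letI : MulAction (P : Subgroup (G ⧸ N)) U :=
        { smul := fun γ u => ⟨φ γ u.1, hUinv γ u.1 u.2⟩
          one_smul := fun u => Subtype.ext (by show φ 1 u.1 = u.1; simp)
          mul_smul := fun a b u => Subtype.ext (apply_mul φ (a : G ⧸ N) b u.1) }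
      have hwU : (w : N ⧸ Zn) ∈ U := ⟨w.2, fun γ hγ => congrArg Subtype.val (hw ⟨γ, hγ⟩)⟩
      have hUle : U ≤ (Wr : Subgroup (N ⧸ Zn)) := fun u hu => hu.1
      have hUp : IsPGroup r U := Wr.2.to_le hUle
      haveI : Nontrivial U := ⟨⟨⟨_, hwU⟩, 1, fun e => hw1 (Subtype.ext (congrArg Subtype.val e :))⟩⟩
      obtain ⟨i, hi, hcard⟩ := hUp.nontrivial_iff_card.1 inferInstance
      obtain ⟨u, hu, hu1⟩ := P.2.exists_fixed_point_of_prime_dvd_card_of_fixed_point U
        (hcard.symm ▸ dvd_pow_self r hi.ne') (a := (1 : U))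
        (fun γ => Subtype.ext (map_one (φ (γ : G ⧸ N))))
      have hall : ∀ γ, φ γ u.1 = u.1 := by
        let S : Subgroup (G ⧸ N) :=
          { carrier := {γ | φ γ u.1 = u.1}
            one_mem' := by simp
            mul_mem' := fun {a b} ha hb => by
              show φ (a * b) u.1 = u.1
              rw [apply_mul, hb, ha]
            inv_mem' := fun {a} ha => by
              show φ a⁻¹ u.1 = u.1
              conv_lhs => rw [← show φ a u.1 = u.1 from ha]
              rw [← apply_mul, inv_mul_cancel, map_one, MulAut.one_apply] }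
        have hS : S = ⊤ := by
          refine Subgroup.eq_top_of_card_eq _ (Nat.dvd_antisymm (Subgroup.card_subgroup_dvd_card S) ?_)
          rw [Nat.dvd_iff_prime_pow_dvd_dvd]
          intro t k ht' htk
          rcases Nat.eq_zero_or_pos k with rfl | hk
          · simp
          have hcases := ht t ht' ((dvd_pow_self t hk.ne').trans (htk.trans hΓdvd))
          have hle : ∀ (t : ℕ) [Fact t.Prime] (R : Sylow t (G ⧸ N)), (R : Subgroup (G ⧸ N)) ≤ S →
              t ^ k ∣ Nat.card (G ⧸ N) → t ^ k ∣ Nat.card S := fun t _ R hRS htk =>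
            (R.pow_dvd_card_of_pow_dvd_card htk).trans (Subgroup.card_dvd_of_le hRS)
          rcases hcases with rfl | rfl
          · exact hle t P (fun γ hγ => congrArg Subtype.val (hu ⟨γ, hγ⟩)) htk
          · exact hle t Q (fun γ hγ => u.2.2 γ hγ) htk
        exact fun γ => (hS.symm ▸ Subgroup.mem_top γ : γ ∈ S)
      exact hu1 (Subtype.ext (hfix u.1 hall).symm)
    obtain ⟨γ, hγ⟩ := exists_card_fix_sq_le ψ hcop hnofix
    refine ⟨γ, ⟨kQ, ?_⟩, ?_⟩
    · rw [Subgroup.orderOf_coe, ← hkQ]; exact orderOf_dvd_natCard γ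
    · refine le_of_eq_of_le ?_ hγ
      congr 1
      exact Nat.card_congr
        { toFun := fun w => ⟨⟨w.1, w.2.1⟩, Subtype.ext w.2.2⟩
          invFun := fun w => ⟨w.1.1, w.1.2, congrArg Subtype.val w.2⟩
          left_inv := fun w => rfl
          right_inv := fun w => rfl }
  have hp : p.Prime := Fact.out
  have hq : q.Prime := Fact.out
  obtain ⟨Wp⟩ := (inferInstance : Nonempty (Sylow p (N ⧸ Zn)))
  obtain ⟨Wq⟩ := (inferInstance : Nonempty (Sylow q (N ⧸ Zn)))
  obtain ⟨γp, ⟨a, ha⟩, hγp⟩ := key p q hp hq hpq hpr Wp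
  obtain ⟨γq, ⟨b, hb⟩, hγq⟩ := key q p hq hp hpq.symm (fun t h1 h2 => (hpr t h1 h2).symm) Wq
  have hco : (orderOf γp).Coprime (orderOf γq) :=
    Nat.Coprime.of_dvd ha hb (Nat.Coprime.pow _ _ ((Nat.coprime_primes hq hp).2 hpq.symm))
  have hcm : Commute γp γq := by
    obtain ⟨Sq⟩ := (inferInstance : Nonempty (Sylow q (G ⧸ N)))
    obtain ⟨Sp⟩ := (inferInstance : Nonempty (Sylow p (G ⧸ N)))
    have hmem : ∀ (t : ℕ) [Fact t.Prime] (S : Sylow t (G ⧸ N)) (γ : G ⧸ N) (i : ℕ),
        orderOf γ ∣ t ^ i → γ ∈ (S : Subgroup (G ⧸ N)) := fun t _ S γ i hi => by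
      obtain ⟨j, -, hj⟩ := (Nat.dvd_prime_pow Fact.out).1 hi
      obtain ⟨S', hS'⟩ := (IsPGroup.of_card (n := j) (by rw [Nat.card_zpowers, hj]) :
        IsPGroup t (Subgroup.zpowers γ)).exists_le_sylow
      haveI := Sylow.unique_of_normal S inferInstance
      rw [Subsingleton.elim S S']
      exact hS' (Subgroup.mem_zpowers γ)
    exact Subgroup.commute_of_normal_of_disjoint _ _ inferInstance inferInstance
      (IsPGroup.disjoint_of_ne q p hpq.symm _ _ Sq.2 Sp.2) γp γq
      (hmem q Sq γp a ha) (hmem p Sp γq b hb)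
  obtain ⟨g, hg⟩ := QuotientGroup.mk_surjective (γp * γq)
  refine ⟨g, ?_⟩
  set d := Module.finrank ℂ V
  have hd := finrank_sq_mul_card_center σ hinj hab N hnil hirr
  have hW : Nat.card (N ⧸ Zn) = d ^ 2 := by
    have h := Subgroup.card_eq_card_quotient_mul_card_subgroup Zn
    rw [Nat.card_congr (Subgroup.subgroupOfEquivOfLe (inf_le_left : Z ≤ N)).toEquiv, ← hd] at h
    exact (Nat.eq_of_mul_eq_mul_right Nat.card_pos h).symm
  have hindex : (fix φ (γp * γq)).index ∣ (Subgroup.centralizer ({g} : Set G)).index := by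
    refine dvd_trans ?_ (relIndex_dvd_index_centralizer N _)
    show _ ∣ ((Subgroup.centralizer ({g} : Set G)).subgroupOf N).index
    rw [← Subgroup.index_comap_of_surjective _ (QuotientGroup.mk'_surjective Zn)]
    refine Subgroup.index_dvd_of_le fun x hx => ?_
    rw [Subgroup.mem_comap, mem_fix, ← hg]
    show φ₀ g (x : N ⧸ Zn) = (x : N ⧸ Zn)
    rw [hφ₀]
    congr 1
    refine Subtype.ext ?_
    rw [MulAut.conjNormal_apply, ← Subgroup.mem_centralizer_singleton_iff.1 (Subgroup.mem_subgroupOf.1 hx),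
      mul_inv_cancel_right]
  have hd0 : d ≠ 0 := Module.finrank_pos.ne'
  have hsub : ∀ (r : ℕ) [Fact r.Prime] (γ : G ⧸ N) (Wr : Sylow r (N ⧸ Zn)),
      γ ∈ Subgroup.zpowers (γp * γq) →
      Nat.card ↥((Wr : Subgroup (N ⧸ Zn)) ⊓ fix φ γ) ^ 2 ≤ Nat.card (Wr : Subgroup (N ⧸ Zn)) →
      r ^ d.factorization r ∣ (fix φ (γp * γq)).index := by
    intro r hrp γ Wr hmem hle
    have hWr : Nat.card (Wr : Subgroup (N ⧸ Zn)) = r ^ (2 * d.factorization r) := by
      rw [Wr.card_eq_multiplicity, hW, Nat.factorization_pow, Finsupp.smul_apply, smul_eq_mul]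
    have hfle : fix φ (γp * γq) ≤ fix φ γ := fun w hw => by
      obtain ⟨i, rfl⟩ := Subgroup.mem_zpowers_iff.1 hmem
      let S : Subgroup (G ⧸ N) :=
        { carrier := {δ | φ δ w = w}
          one_mem' := by simp
          mul_mem' := fun {a b} ha hb => by
            show φ (a * b) w = w
            rw [apply_mul, hb, ha]
          inv_mem' := fun {a} ha => by
            show φ a⁻¹ w = w
            conv_lhs => rw [← show φ a w = w from ha]
            rw [← apply_mul, inv_mul_cancel, map_one, MulAut.one_apply] }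
      exact S.zpow_mem (show γp * γq ∈ S from hw) i
    refine dvd_trans ?_ (Subgroup.relIndex_dvd_index_of_normal (H := fix φ (γp * γq))
      (K := (Wr : Subgroup (N ⧸ Zn))))
    refine dvd_trans ?_ (Subgroup.relIndex_dvd_of_le_left (L := (Wr : Subgroup (N ⧸ Zn))) hfle)
    have hmul := Subgroup.relIndex_mul_relIndex ⊥ ((Wr : Subgroup (N ⧸ Zn)) ⊓ fix φ γ) _ bot_le
      (inf_le_left : _ ≤ (Wr : Subgroup (N ⧸ Zn)))
    rw [Subgroup.relIndex_bot_left, Subgroup.relIndex_bot_left, Subgroup.inf_relIndex_left, hWr] at hmul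
    obtain ⟨i, hi, hI⟩ := (Nat.dvd_prime_pow Fact.out).1 (Dvd.intro_left _ hmul)
    obtain ⟨j, hj, hJ⟩ := (Nat.dvd_prime_pow Fact.out).1 (Dvd.intro _ hmul)
    rw [hI, hJ, ← pow_add] at hmul
    have hij := Nat.pow_right_injective (Fact.out : r.Prime).two_le hmul
    rw [hJ, hWr, ← pow_mul] at hle
    have hj2 := (Nat.pow_le_pow_iff_right (Fact.out : r.Prime).one_lt).1 hle
    rw [hI]
    exact Nat.pow_dvd_pow _ (by omega)
  refine dvd_trans ?_ hindex
  rw [Nat.dvd_iff_prime_pow_dvd_dvd]
  intro r k hr hrk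
  rcases Nat.eq_zero_or_pos k with rfl | hk
  · simp
  have hk' : r ^ k ∣ r ^ d.factorization r := Nat.pow_dvd_pow r
    ((hr.pow_dvd_iff_le_factorization hd0).1 hrk)
  have hrG : r ∣ Nat.card G := by
    have h1 : r ∣ Nat.card N := hd ▸ Dvd.dvd.mul_right
      (dvd_pow ((dvd_pow_self r hk.ne').trans hrk) two_ne_zero) _
    exact h1.trans (Subgroup.card_subgroup_dvd_card N)
  obtain ⟨m, hm1, hm2⟩ := Nat.chineseRemainder hco 1 0
  have hmemp : γp ∈ Subgroup.zpowers (γp * γq) := by
    have : (γp * γq) ^ m = γp := by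
      rw [hcm.mul_pow, pow_eq_pow_iff_modEq.2 hm1, pow_one, pow_eq_pow_iff_modEq.2 hm2, pow_zero, mul_one]
    have h1 := Subgroup.pow_mem _ (Subgroup.mem_zpowers (γp * γq)) m
    rwa [this] at h1
  have hmemq : γq ∈ Subgroup.zpowers (γp * γq) := by
    have h1 := Subgroup.mul_mem _ (Subgroup.inv_mem _ hmemp) (Subgroup.mem_zpowers (γp * γq))
    rwa [inv_mul_cancel_left] at h1
  rcases hpr r hr hrG with rfl | rfl
  · exact hk'.trans (hsub r γp Wp hmemp hγp)
  · exact hk'.trans (hsub r γq Wq hmemq hγq)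

/-- The degree of a quasiprimitive character divides a class size. -/
theorem exists_charDegree_dvd_index {p q : ℕ} [Fact p.Prime] [Fact q.Prime]
    (hpr : ∀ r : ℕ, r.Prime → r ∣ Nat.card G → r = p ∨ r = q) (hpq : p ≠ q)
    {χ : G → ℂ} (hχ : Cfsg.IsIrrCharacter G χ) (hqp : QPrim χ)
    (F : Subgroup G) [F.Normal] (hnil : Group.IsNilpotent F) (hquot : Group.IsNilpotent (G ⧸ F)) :
    ∃ g : G, Cfsg.charDegree χ ∣ (Subgroup.centralizer ({g} : Set G)).index := by
  classical
  haveI := Fintype.ofFinite G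
  haveI := Fintype.ofFinite F
  have hF := isIrr_restrict_of_nilpotent hqp hχ F hquot
  obtain ⟨m, ρ, hρ, rfl⟩ := hχ
  rw [Codegree.charDegree_character]
  let K := MonoidHom.ker ρ
  haveI := Codegree.kerRep_irreducible ρ
  let f := QuotientGroup.mk' K
  let N := F.map f
  haveI : N.Normal := Subgroup.Normal.map inferInstance f (QuotientGroup.mk'_surjective K)
  have hNnil : Group.IsNilpotent N :=
    haveI := hnil
    Group.nilpotent_of_surjective (f.subgroupMap F) (f.subgroupMap_surjective F)
  have hQnil : Group.IsNilpotent ((G ⧸ K) ⧸ N) :=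
    haveI := hquot
    Group.nilpotent_of_surjective (QuotientGroup.map F N f (Subgroup.le_comap_map f F))
      fun x => QuotientGroup.induction_on x fun y => QuotientGroup.induction_on y fun a => ⟨a, rfl⟩
  have hNirr : Representation.IsIrreducible ((Codegree.kerRep ρ).comp N.subtype) := by
    rw [← isIrreducible_comp_iff (f.subgroupMap F) (f.subgroupMap_surjective F)]
    exact (isIrreducible_iff_classInner _).2 (classInner_isIrr_self hF)
  have hab : ∀ A : Subgroup (G ⧸ K), A.Normal → (∀ a ∈ A, ∀ b ∈ A, a * b = b * a) →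
      A ≤ Subgroup.center (G ⧸ K) := by
    intro A hA hcomm x hx
    haveI := hA
    obtain ⟨a, rfl⟩ := QuotientGroup.mk_surjective x
    obtain ⟨c, hc⟩ := scalar_of_commute ρ hqp (A.comap f)
      (fun y hy z hz => by
        have h1 := congrArg (Codegree.kerRep ρ) (hcomm (f y) hy (f z) hz)
        simp only [map_mul] at h1
        exact h1) hx
    rw [Subgroup.mem_center_iff]
    intro y
    apply Codegree.kerRep_injective ρ
    rw [map_mul, map_mul, Codegree.kerRep_mk, hc]
    ext v
    simp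
  obtain ⟨g, hg⟩ := exists_dvd_index_of_faithful (p := p) (q := q)
    (fun r hr hd => hpr r hr (hd.trans (Subgroup.card_quotient_dvd_card K))) hpq
    (Codegree.kerRep ρ) (Codegree.kerRep_injective ρ) hab N hNnil hNirr hQnil
  obtain ⟨a, rfl⟩ := QuotientGroup.mk_surjective g
  refine ⟨a, hg.trans ?_⟩
  calc (Subgroup.centralizer ({(a : G ⧸ K)} : Set (G ⧸ K))).index
      ∣ ((Subgroup.centralizer ({a} : Set G)).map f).index := Subgroup.index_dvd_of_le (by
        rintro _ ⟨y, hy, rfl⟩
        rw [Subgroup.mem_centralizer_singleton_iff]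
        exact congrArg f (Subgroup.mem_centralizer_singleton_iff.1 hy))
    _ ∣ _ := Subgroup.index_map_dvd _ (QuotientGroup.mk'_surjective K)

end CfsgLib.PrimitiveDegree
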